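import Groth.Agent.AssLib.Points
import Groth.Agent.AssLib.Push
import Groth.Agent.QC.FiniteType
import Groth.Agent.QC.IdealMod
import Groth.Agent.QC.Coherent

/-!
# Associated points and monomorphisms from the reduced closure
-/

set_option autoImplicit false
set_option backward.isDefEq.respectTransparency false

universe u

open CategoryTheory CategoryTheory.Limits AlgebraicGeometry Opposite Groth.Agent.QC Groth.Agent.WeakAssLib
  Groth.Agent.AssLib

namespace Groth.Agent.AssDecomp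

variable {X : Scheme.{u}}

/-- the reduced closure of a point -/
noncomputable abbrev pointIdeal (x : X) : X.IdealSheafData :=
  Scheme.IdealSheafData.vanishingIdeal ⟨closure {x}, isClosed_closure⟩

/-- its structure sheaf -/
noncomputable abbrev pointMod (x : X) : X.Modules :=
  (Scheme.Modules.pushforward (pointIdeal x).subschemeι).obj (Coh.structureModule (pointIdeal x).subscheme)

theorem pointIdeal_ideal {x : X} {V : X.Opens} (hV : IsAffineOpen V) (hx : x ∈ V) :
    (pointIdeal x).ideal ⟨V, hV⟩ = (hV.primeIdealOf ⟨x, hx⟩).asIdeal := by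
  show PrimeSpectrum.vanishingIdeal (hV.fromSpec ⁻¹' closure {x}) = _
  have e : hV.fromSpec ⁻¹' closure {x} = closure {hV.primeIdealOf ⟨x, hx⟩} := by
    rw [hV.fromSpec.isOpenEmbedding.isInducing.closure_eq_preimage_closure_image, Set.image_singleton]
    erw [hV.fromSpec_primeIdealOf ⟨x, hx⟩]
  rw [e, PrimeSpectrum.vanishingIdeal_closure, PrimeSpectrum.vanishingIdeal_singleton]

/-- the section `1` of the structure sheaf of the reduced closure -/
noncomputable def pointOne (x : X) (V : X.Opens) : Γ(pointMod x, V) :=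
  (1 : Γ((pointIdeal x).subscheme, (pointIdeal x).subschemeι ⁻¹ᵁ V))

theorem smul_one_eq_zero_iff {x : X} {V : X.Opens} (hV : IsAffineOpen V) (hx : x ∈ V) (a : Γ(X, V)) :
    a • pointOne x V = 0 ↔ a ∈ (hV.primeIdealOf ⟨x, hx⟩).asIdeal := by
  rw [← pointIdeal_ideal hV hx, ← (pointIdeal x).ker_subschemeι_app, RingHom.mem_ker]
  show (pointIdeal x).subschemeι.app V a * 1 = 0 ↔ _
  rw [mul_one]

theorem isAssPoint_of_mono {F : X.Modules} (hF : Coh.IsQCoh F) {x : X} {U : X.Opens} (hxU : x ∈ U)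
    (ψ : (pointMod x).restrict U.ι ⟶ F.restrict U.ι) [Mono ψ] : Curv2.IsAssPoint F x := by
  obtain ⟨W, hW, hxW, -⟩ := exists_isAffineOpen_mem_and_subset (X := U.toScheme) (U := ⊤) (x := ⟨x, hxU⟩) trivial
  have hV : IsAffineOpen (U.ι ''ᵁ W) := hW.image_of_isOpenImmersion U.ι
  have hxV : x ∈ U.ι ''ᵁ W := ⟨⟨x, hxU⟩, hxW, rfl⟩
  let e : Γ((pointMod x).restrict U.ι, W) := pointOne x (U.ι ''ᵁ W)
  refine isAssPoint_of_colon_eq hV (isLoc_of_isQCoh hV (hM := hF)) hxV
    (ψ.app W e : Γ(F.restrict U.ι, W)) ?_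
  ext a
  rw [← smul_one_eq_zero_iff hV hxV a]
  obtain ⟨r, rfl⟩ : ∃ r, (U.ι.appIso W).inv r = a :=
    ⟨(U.ι.appIso W).hom a, by rw [← ConcreteCategory.comp_apply, Iso.hom_inv_id]; rfl⟩
  show r • (ψ.app W e : Γ(F.restrict U.ι, W)) = 0 ↔ r • e = (0 : Γ((pointMod x).restrict U.ι, W))
  rw [← Scheme.Modules.Hom.app_smul]
  exact map_eq_zero_iff _ (app_injective_of_mono ψ W)

theorem exists_mono [IsLocallyNoetherian X] {F : X.Modules} (hF : Coh.IsQCoh F) {x : X}
    (h : Curv2.IsAssPoint F x) :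
    ∃ U : X.Opens, x ∈ U ∧ ∃ ψ : (pointMod x).restrict U.ι ⟶ F.restrict U.ι, Mono ψ := by
  obtain ⟨V, hV, hxV, -⟩ := exists_isAffineOpen_mem_and_subset (X := X) (U := ⊤) (trivial : x ∈ (⊤ : X.Opens))
  obtain ⟨t, ht⟩ := exists_colon_eq hV (isLoc_of_isQCoh hV (hM := hF)) hxV h
  refine ⟨V, hxV, ?_⟩
  have hsurj : Function.Surjective ((pointIdeal x).subschemeι.app V) :=
    Scheme.Hom.app_surjective _ V hV
  let g : Γ(X, V) →ₗ[Γ(X, V)] Γ(pointMod x, V) :=
    LinearMap.toSpanSingleton _ _ (pointOne x V)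
  have hg : Function.Surjective g := fun z => by
    obtain ⟨a, ha⟩ := hsurj z
    refine ⟨a, ?_⟩
    show (pointIdeal x).subschemeι.app V a * 1 = z
    rw [mul_one]
    exact ha
  have hk : LinearMap.ker g = LinearMap.ker (LinearMap.toSpanSingleton Γ(X, V) Γ(F, V) t) := by
    ext a
    rw [ht]
    exact smul_one_eq_zero_iff hV hxV a
  let l : Γ(pointMod x, V) →ₗ[Γ(X, V)] Γ(F, V) :=
    ((LinearMap.ker g).liftQ (LinearMap.toSpanSingleton Γ(X, V) Γ(F, V) t) hk.le) ∘ₗ
      (g.quotKerEquivOfSurjective hg).symm.toLinearMap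
  have hl : Function.Injective l := by
    simp only [l, LinearMap.coe_comp]
    refine Function.Injective.comp ?_ (g.quotKerEquivOfSurjective hg).symm.injective
    exact LinearMap.ker_eq_bot.1 (Submodule.ker_liftQ_eq_bot _ _ _ hk.ge)
  haveI : (Coh.structureModule (pointIdeal x).subscheme).IsQuasicoherent := isQCoh_unit _
  haveI : ((pointMod x).restrict hV.fromSpec).IsQuasicoherent :=
    isQCoh_restrict _ (isQCoh_pushforward (pointIdeal x).subschemeι)
  haveI : (F.restrict hV.fromSpec).IsQuasicoherent := isQCoh_restrict _ hF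
  let h₀ := ModuleCat.ofHom (R := Γ(X, V))
    (X := (modulesSpecToSheaf.obj ((pointMod x).restrict hV.fromSpec)).presheaf.obj (op ⊤))
    (Y := (modulesSpecToSheaf.obj (F.restrict hV.fromSpec)).presheaf.obj (op ⊤))
    ((topEquiv hV F).symm.toLinearMap ∘ₗ l ∘ₗ (topEquiv hV (pointMod x)).toLinearMap)
  haveI : Mono h₀ := (ModuleCat.mono_iff_injective h₀).2
    ((topEquiv hV F).symm.injective.comp (hl.comp (topEquiv hV (pointMod x)).injective))
  haveI : Mono (tilde.map h₀) := tilde_map_mono h₀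
  let θ : (pointMod x).restrict hV.fromSpec ⟶ F.restrict hV.fromSpec :=
    (isoTildeΓ _).inv ≫ tilde.map h₀ ≫ (isoTildeΓ _).hom
  haveI : Mono θ := inferInstance
  exact ⟨(fromSpecIso hV _).inv ≫ (Scheme.Modules.restrictFunctor hV.isoSpec.hom).map θ ≫ (fromSpecIso hV _).hom,
    inferInstance⟩

theorem mem_ass_iff [IsLocallyNoetherian X] (F : X.Modules) (hF : Coh.IsQCoh F) (x : X) :
    x ∈ AssSch.Ass F ↔ ∃ (U : X.Opens), x ∈ U ∧
      ∃ φ : (Scheme.Modules.pullback U.ι).obj (pointMod x) ⟶ (Scheme.Modules.pullback U.ι).obj F, Mono φ := by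
  constructor
  · intro h
    obtain ⟨U, hU, ψ, hψ⟩ := exists_mono hF h
    exact ⟨U, hU, ((Scheme.Modules.restrictFunctorIsoPullback U.ι).app _).inv ≫ ψ ≫
      ((Scheme.Modules.restrictFunctorIsoPullback U.ι).app _).hom, inferInstance⟩
  · rintro ⟨U, hU, φ, hφ⟩
    exact isAssPoint_of_mono hF hU (((Scheme.Modules.restrictFunctorIsoPullback U.ι).app _).hom ≫ φ ≫
      ((Scheme.Modules.restrictFunctorIsoPullback U.ι).app _).inv)

end Groth.Agent.AssDecomp
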